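import Mathlib

/-!
Identities for Clifford systems in a ring of characteristic two.
Owner: helper1.
-/

set_option autoImplicit false

namespace Cfsg.Agent.Lib.SpinTensor

variable {R : Type*} [Ring R]

/-- Two rows of commuting pairs a, b with squares zero and anticommutator one. -/
structure Car (a b : Fin 4 → R) : Prop where
  two : ∀ x : R, x + x = 0
  sqa : ∀ j, a j * a j = 0
  sqb : ∀ j, b j * b j = 0
  anti : ∀ j, a j * b j + b j * a j = 1
  aa : ∀ j l, Commute (a j) (a l)
  bb : ∀ j l, Commute (b j) (b l)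
  ab : ∀ j l, j ≠ l → Commute (a j) (b l)

theorem sq_mul_zero {x y : R} (hc : Commute x y) (hx : x * x = 0) : (x * y) * (x * y) = 0 := by
  rw [show x * y * (x * y) = x * (y * x) * y by simp only [mul_assoc], ← hc.eq, ← mul_assoc x, hx, zero_mul,
    zero_mul]

theorem invol {X : R} (h2 : ∀ x : R, x + x = 0) (hX : X * X = 0) : (1 + X) * (1 + X) = 1 := by
  rw [mul_add, mul_one, add_mul, one_mul, hX, add_zero, add_assoc, h2, add_zero]

/-- The commutator of the involutions 1 + a C and 1 + b D. -/
theorem comm_invol {a b C D : R} (h2 : ∀ x : R, x + x = 0) (ha : a * a = 0) (hb : b * b = 0)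
    (hab : a * b + b * a = 1) (haC : Commute a C) (haD : Commute a D) (hbC : Commute b C) (hbD : Commute b D)
    (hCD : Commute C D) (hC : C * C = 0) (hD : D * D = 0) :
    (1 + a * C) * (1 + b * D) * (1 + a * C) * (1 + b * D) = 1 + C * D := by
  set X := a * C with hXdef
  set Y := b * D with hYdef
  have hX : X * X = 0 := sq_mul_zero haC ha
  have hY : Y * Y = 0 := sq_mul_zero hbD hb
  have hsum : X * Y + Y * X = C * D := by
    have e1 : X * Y = a * b * (C * D) := by
      rw [hXdef, hYdef, mul_assoc a, ← mul_assoc C, ← hbC.eq, mul_assoc b, ← mul_assoc]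
    have e2 : Y * X = b * a * (C * D) := by
      rw [hXdef, hYdef, mul_assoc b, ← mul_assoc D, ← haD.eq, mul_assoc a, ← hCD.eq, ← mul_assoc]
    rw [e1, e2, ← add_mul, hab, one_mul]
  have hXYX : X * Y * X = 0 := by
    calc X * Y * X = X * (X * Y + Y * X) - X * X * Y := by noncomm_ring
      _ = a * C * (C * D) := by rw [hX, zero_mul, sub_zero, hsum]
      _ = 0 := by rw [mul_assoc, ← mul_assoc C, hC, zero_mul, mul_zero]
  have hCDY : C * D * Y = 0 := by
    rw [hYdef, hbD.eq, ← mul_assoc, mul_assoc C, hD, mul_zero, zero_mul]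
  have h1 : (1 + X) * (1 + Y) * (1 + X) = 1 + Y + C * D := by
    calc (1 + X) * (1 + Y) * (1 + X) = (1 + X) * (1 + X) + (Y + (X * Y + Y * X) + X * Y * X) := by
          noncomm_ring
      _ = _ := by rw [invol h2 hX, hsum, hXYX, add_zero, ← add_assoc]
  rw [h1]
  calc (1 + Y + C * D) * (1 + Y) = (1 + Y) * (1 + Y) + (C * D + C * D * Y) := by noncomm_ring
    _ = _ := by rw [invol h2 hY, hCDY, add_zero]

/-- Conjugation of b by the involution 1 + a C. -/
theorem conj_invol {a b C : R} (h2 : ∀ x : R, x + x = 0) (ha : a * a = 0) (hab : a * b + b * a = 1)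
    (haC : Commute a C) (hbC : Commute b C) (hC : C * C = 0) :
    (1 + a * C) * b * (1 + a * C) = b + C := by
  have h1 : a * C * b + b * (a * C) = C := by
    rw [mul_assoc, ← hbC.eq, ← mul_assoc, ← mul_assoc, ← add_mul, hab, one_mul]
  have h3 : a * C * b * (a * C) = 0 := by
    calc a * C * b * (a * C) = (a * C * b + b * (a * C)) * (a * C) - b * ((a * C) * (a * C)) := by noncomm_ring
      _ = C * (a * C) := by rw [sq_mul_zero haC ha, mul_zero, sub_zero, h1]
      _ = 0 := by rw [haC.eq, ← mul_assoc, hC, zero_mul]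
  calc (1 + a * C) * b * (1 + a * C) = b + (a * C * b + b * (a * C)) + a * C * b * (a * C) := by noncomm_ring
    _ = _ := by rw [h1, h3, add_zero]

end Cfsg.Agent.Lib.SpinTensor
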