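import Cfsg.Agent.Lib.SpinTensor.Main

/-!
The slot data for factors of dimension two and four.
Owner: helper1.
-/

set_option autoImplicit false
set_option linter.style.haveILetI false

namespace Cfsg.Agent.Lib.SpinTensor

open Cfsg.Geo Cfsg.Agent.Lib.Aschbacher
open scoped Matrix MatrixGroups

variable {F : Type*} [Field F] {t : ℕ} {ι : Type} [Fintype ι] [DecidableEq ι] [Fintype F]

theorem exists_between_two (ht : 4 ≤ t) {e : ι ≃ (Fin t → Fin 2)} {P : GL ι F} {Q : (ι → F) → F}
    {G : Matrix (Fin 2) (Fin 2) F} {c : F} (hf : FormData e P Q G c) (hd : ∀ i, G i i = 0)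
    (hsymm : G 1 0 = G 0 1) (h0 : G 0 1 ≠ 0) :
    ∃ K : Subgroup (GL ι F), tensorWreathSubgroup 2 t e P ⊓ omegaGL Q < K ∧ K < omegaGL Q := by
  let s : Fin 4 → Fin t := fun j => ⟨j.1, by omega⟩
  have hs' : Function.Injective s := fun a b h => Fin.ext (by simpa [s] using congrArg Fin.val h)
  let A : Matrix (Fin 2) (Fin 2) F := !![0, 1; 0, 0]
  let B : Matrix (Fin 2) (Fin 2) F := !![0, 0; 1, 0]
  have hG0 : G ≠ 0 := fun h => h0 (by rw [h]; rfl)
  have hne : ∀ j l, s j = s l → j = l := fun j l h => hs' h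
  have hs : Slots G (S2 F) s (fun _ => A) (fun _ => B) := by
    refine ⟨loc_two G, fun _ => ?_, fun _ => ?_, fun _ => ?_, fun _ => ?_, fun _ => ?_,
      fun _ _ _ => Commute.refl _, fun _ _ _ => Commute.refl _, fun j l h h' => absurd (hne j l h') h,
      fun _ => ?_, fun _ => ?_, fun h => absurd (hne 0 1 h) (by decide)⟩
    · simp [S2, A, Matrix.trace_fin_two]
    · simp [S2, B, Matrix.trace_fin_two]
    · ext i j
      fin_cases i <;> fin_cases j <;> simp [A, Matrix.mul_apply]
    · ext i j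
      fin_cases i <;> fin_cases j <;> simp [B, Matrix.mul_apply]
    · ext i j
      fin_cases i <;> fin_cases j <;> simp [A, B, Matrix.mul_apply]
    · ext i j
      fin_cases i <;> fin_cases j <;> simp [A, Matrix.mul_apply, hd, hsymm]
    · ext i j
      fin_cases i <;> fin_cases j <;> simp [B, Matrix.mul_apply, hd, hsymm]
  have hu : ∀ j : Fin 4, ∀ l : Fin 4, l ≠ j → ∀ M : Matrix (Fin 2) (Fin 2) F,
      Function.update (fun _ => (1 : Matrix (Fin 2) (Fin 2) F)) (s j) M (s l) = 1 := fun j l h M => by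
    rw [Function.update_of_ne (fun h' => h (hne l j h'))]
  refine exists_between hf hG0 hs (isNull_two (l := s 1) fun x => ?_) (isNull_two (l := s 0) fun x => ?_)
    (isNull_two (l := s 1) fun x => ?_) (isNull_three (l := s 0) fun x => ?_)
  · simp only [hu 2 1 (by decide), hu 0 1 (by decide), mul_one]
    exact hd x
  · simp only [hu 2 0 (by decide), hu 1 0 (by decide), mul_one]
    exact hd x
  · simp only [hu 3 1 (by decide), hu 0 1 (by decide), mul_one]
    exact hd x
  · simp only [hu 3 0 (by decide), hu 1 0 (by decide), hu 2 0 (by decide), mul_one]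
    exact hd x

/-- The hyperbolic Gram matrix. -/
def J4 : Matrix (Fin 4) (Fin 4) F := !![0, 1, 0, 0; 1, 0, 0, 0; 0, 0, 0, 1; 0, 0, 1, 0]

theorem exists_between_four (ht : 2 ≤ t) {e : ι ≃ (Fin t → Fin 4)} {P : GL ι F} {Q : (ι → F) → F}
    {G : Matrix (Fin 4) (Fin 4) F} {c : F} (hf : FormData e P Q G c) (hG : IsAlt G)
    (B : Matrix (Fin 4) (Fin 4) F) (hB : Bᵀ * G * B = J4) :
    ∃ K : Subgroup (GL ι F), tensorWreathSubgroup 4 t e P ⊓ omegaGL Q < K ∧ K < omegaGL Q := by
  have h2 := hf.two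
  have hnegF : ∀ x : F, -x = x := fun x => by linear_combination -x * h2
  have hJ2 : (J4 : Matrix (Fin 4) (Fin 4) F) * J4 = 1 := by
    ext i j
    fin_cases i <;> fin_cases j <;> simp [J4, Matrix.mul_apply, Fin.sum_univ_four]
  let Bi : Matrix (Fin 4) (Fin 4) F := J4 * Bᵀ * G
  have hBiB : Bi * B = 1 := by
    simp only [Bi, mul_assoc] at hB ⊢
    rw [hB, hJ2]
  have hBBi : B * Bi = 1 := mul_eq_one_comm.1 hBiB
  have hG0 : G ≠ 0 := fun h => by
    rw [h, mul_zero, zero_mul] at hB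
    simpa [J4] using congrFun (congrFun hB 0) 1
  have hGt : Gᵀ = G := Matrix.ext fun i j => by rw [Matrix.transpose_apply, hG.skew i j, hnegF]
  let i0 : Fin t := ⟨0, by omega⟩
  let i1 : Fin t := ⟨1, by omega⟩
  have h01 : i0 ≠ i1 := fun h => by simpa [i0, i1] using congrArg Fin.val h
  let s : Fin 4 → Fin t := ![i0, i1, i0, i1]
  let e0 : Matrix (Fin 4) (Fin 4) F := !![0, 0, 0, 1; 0, 0, 0, 0; 0, 1, 0, 0; 0, 0, 0, 0]
  let e0' : Matrix (Fin 4) (Fin 4) F := !![0, 0, 1, 0; 0, 0, 0, 0; 0, 0, 0, 0; 0, 1, 0, 0]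
  let f0 : Matrix (Fin 4) (Fin 4) F := !![0, 0, 0, 0; 0, 0, 1, 0; 0, 0, 0, 0; 1, 0, 0, 0]
  let f0' : Matrix (Fin 4) (Fin 4) F := !![0, 0, 0, 0; 0, 0, 0, 1; 1, 0, 0, 0; 0, 0, 0, 0]
  let a : Fin 4 → Matrix (Fin 4) (Fin 4) F := ![e0, e0, e0', e0']
  let b : Fin 4 → Matrix (Fin 4) (Fin 4) F := ![f0, f0, f0', f0']
  let φ : Matrix (Fin 4) (Fin 4) F → Matrix (Fin 4) (Fin 4) F := fun M => B * M * Bi
  have hφ : ∀ M N, φ M * φ N = φ (M * N) := fun M N => by
    simp only [φ, mul_assoc]
    rw [← mul_assoc Bi B, hBiB, one_mul]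
  have hφ1 : φ 1 = 1 := by simp only [φ, mul_one, hBBi]
  have hφadd : ∀ M N, φ M + φ N = φ (M + N) := fun M N => by simp only [φ, mul_add, add_mul]
  have hφ0 : φ 0 = 0 := by simp [φ]
  have hφc : ∀ M N, M * N = N * M → Commute (φ M) (φ N) := fun M N h => by
    rw [Commute, SemiconjBy, hφ, hφ, h]
  have hsq : ∀ M ∈ ({e0, e0', f0, f0'} : Set (Matrix (Fin 4) (Fin 4) F)), M * M = 0 := by
    intro M hM
    simp only [Set.mem_insert_iff, Set.mem_singleton_iff] at hM
    rcases hM with rfl | rfl | rfl | rfl <;> ext i j <;> fin_cases i <;> fin_cases j <;>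
      simp [e0, e0', f0, f0', Matrix.mul_apply, Fin.sum_univ_four]
  have halt : ∀ M ∈ ({e0, e0', f0, f0'} : Set (Matrix (Fin 4) (Fin 4) F)), IsAlt (M * J4) := by
    intro M hM
    simp only [Set.mem_insert_iff, Set.mem_singleton_iff] at hM
    rcases hM with rfl | rfl | rfl | rfl <;>
      exact ⟨fun i => by fin_cases i <;> simp [e0, e0', f0, f0', J4, Matrix.mul_apply, Fin.sum_univ_four],
        fun i j => by
          rw [hnegF]
          fin_cases i <;> fin_cases j <;> simp [e0, e0', f0, f0', J4, Matrix.mul_apply, Fin.sum_univ_four]⟩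
  have hmem : ∀ j, a j ∈ ({e0, e0', f0, f0'} : Set (Matrix (Fin 4) (Fin 4) F)) ∧
      b j ∈ ({e0, e0', f0, f0'} : Set (Matrix (Fin 4) (Fin 4) F)) := by
    intro j
    fin_cases j <;> simp [a, b]
  have hS : ∀ M, M * M = 0 → IsAlt (M * J4) → φ M ∈ S4 G := by
    intro M h1 h3
    refine ⟨⟨B * (M * J4) * Bᵀ, alt_congr B h3, ?_⟩, 0, ?_⟩
    · simp only [φ, Bi, mul_assoc]
    · rw [hφ, h1, hφ0, zero_smul]
  have hGalt : ∀ M, IsAlt (M * J4) → IsAlt (G * φ M) := by
    intro M h3
    have := alt_congr G (alt_congr B h3)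
    rw [hGt] at this
    simpa only [φ, Bi, mul_assoc] using this
  have hadj : ∀ M, IsAlt (M * J4) → SelfAdj G (φ M) := by
    intro M h3
    unfold SelfAdj
    conv_lhs => rw [← hGt, ← Matrix.transpose_mul]
    exact Matrix.ext fun i j => by rw [Matrix.transpose_apply, (hGalt M h3).skew i j, hnegF]
  have hs : Slots G (S4 G) s (fun j => φ (a j)) (fun j => φ (b j)) := by
    refine ⟨loc_four h2 hG, fun j => hS _ (hsq _ (hmem j).1) (halt _ (hmem j).1),
      fun j => hS _ (hsq _ (hmem j).2) (halt _ (hmem j).2), fun j => by rw [hφ, hsq _ (hmem j).1, hφ0],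
      fun j => by rw [hφ, hsq _ (hmem j).2, hφ0], fun j => ?_, fun j l _ => hφc _ _ ?_, fun j l _ => hφc _ _ ?_,
      fun j l hjl hsl => hφc _ _ ?_, fun j => hadj _ (halt _ (hmem j).1), fun j => hadj _ (halt _ (hmem j).2), h01⟩
    · rw [hφ, hφ, hφadd, show a j * b j + b j * a j = 1 from ?_, hφ1]
      fin_cases j <;> ext u v <;> fin_cases u <;> fin_cases v <;>
        simp [a, b, e0, e0', f0, f0', Matrix.mul_apply, Fin.sum_univ_four]
    · fin_cases j <;> fin_cases l <;> ext u v <;> fin_cases u <;> fin_cases v <;>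
        simp [a, e0, e0', Matrix.mul_apply, Fin.sum_univ_four]
    · fin_cases j <;> fin_cases l <;> ext u v <;> fin_cases u <;> fin_cases v <;>
        simp [b, f0, f0', Matrix.mul_apply, Fin.sum_univ_four]
    · fin_cases j <;> fin_cases l <;> first
        | exact absurd rfl hjl
        | exact absurd hsl h01
        | exact absurd hsl h01.symm
        | (ext u v; fin_cases u <;> fin_cases v <;>
            simp [a, b, e0, e0', f0, f0', Matrix.mul_apply, Fin.sum_univ_four])
  have hu : ∀ M : Matrix (Fin 4) (Fin 4) F,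
      Function.update (fun _ => (1 : Matrix (Fin 4) (Fin 4) F)) i0 M i1 = 1 ∧
      Function.update (fun _ => (1 : Matrix (Fin 4) (Fin 4) F)) i1 M i0 = 1 := fun M =>
    ⟨by rw [Function.update_of_ne h01.symm], by rw [Function.update_of_ne h01]⟩
  refine exists_between hf hG0 hs (isNull_two (l := i1) fun x => ?_) (isNull_two (l := i0) fun x => ?_)
    (isNull_two (l := i0) fun x => ?_) (isNull_three (l := i0) fun x => ?_)
  · simp only [show s 2 = i0 from rfl, show s 0 = i0 from rfl, (hu _).1, mul_one]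
    exact hG.diag x
  · simp only [show s 2 = i0 from rfl, show s 1 = i1 from rfl, (hu _).2, Function.update_self, mul_one]
    exact (hGalt _ (halt _ (hmem 2).2)).diag x
  · simp only [show s 3 = i1 from rfl, show s 0 = i0 from rfl, (hu _).2, Function.update_self, one_mul]
    exact (hGalt _ (halt _ (hmem 0).1)).diag x
  · simp only [show s 3 = i1 from rfl, show s 1 = i1 from rfl, show s 2 = i0 from rfl, (hu _).2,
      Function.update_self, one_mul]
    exact (hGalt _ (halt _ (hmem 2).1)).diag x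

end Cfsg.Agent.Lib.SpinTensor
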