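import Mathlib

/-!
The local data of a Clifford system inside a tensor factor in characteristic two: for a factor of dimension two
the matrices of trace zero, for a factor of dimension four the alternating operators with scalar square.
Owner: helper1.
-/

set_option autoImplicit false

namespace Cfsg.Agent.Lib.SpinTensor

open scoped Matrix

variable {F : Type*} [Field F]

/-- The alternating 4 × 4 matrix with the given six entries. -/
def asym {R : Type*} [Zero R] [Neg R] (o : Fin 6 → R) : Matrix (Fin 4) (Fin 4) R :=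
  !![0, o 0, o 1, o 2; -o 0, 0, o 3, o 4; -o 1, -o 3, 0, o 5; -o 2, -o 4, -o 5, 0]

/-- Alternating matrices. -/
structure IsAlt {κ : Type*} (A : Matrix κ κ F) : Prop where
  diag : ∀ i, A i i = 0
  skew : ∀ i j, A j i = - A i j

theorem isAlt_asym (o : Fin 6 → F) : IsAlt (asym o) :=
  ⟨fun i => by fin_cases i <;> simp [asym], fun i j => by fin_cases i <;> fin_cases j <;> simp [asym]⟩

theorem exists_asym {A : Matrix (Fin 4) (Fin 4) F} (h : IsAlt A) : ∃ o, A = asym o := by
  refine ⟨![A 0 1, A 0 2, A 0 3, A 1 2, A 1 3, A 2 3], ?_⟩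
  ext i j
  fin_cases i <;> fin_cases j <;> simp [asym, h.diag] <;> exact h.skew _ _

theorem alt_congr (B : Matrix (Fin 4) (Fin 4) F) {A : Matrix (Fin 4) (Fin 4) F} (h : IsAlt A) :
    IsAlt (B * A * Bᵀ) := by
  obtain ⟨o, rfl⟩ := exists_asym h
  refine ⟨fun i => ?_, fun i j => ?_⟩
  · simp [asym, Matrix.mul_apply, Fin.sum_univ_four]
    ring
  · simp [asym, Matrix.mul_apply, Fin.sum_univ_four]
    ring

/-- The linear coefficient of the quadratic equation of a product of two alternating matrices. -/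
def tau (o g : Fin 6 → F) : F :=
  -(o 0 * g 0 + o 1 * g 1 + o 2 * g 2 + o 3 * g 3 + o 4 * g 4 + o 5 * g 5)

/-- The Pfaffian. -/
def pf (o : Fin 6 → F) : F := o 0 * o 5 - o 1 * o 4 + o 2 * o 3

theorem asym_sq (o g : Fin 6 → F) :
    asym o * asym g * (asym o * asym g) =
      tau o g • (asym o * asym g) - (pf o * pf g) • (1 : Matrix (Fin 4) (Fin 4) F) := by
  ext i j
  fin_cases i <;> fin_cases j <;> simp [asym, tau, pf, Matrix.mul_apply, Fin.sum_univ_four] <;> ring

theorem asym_anti (o o' g : Fin 6 → F) :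
    asym o * asym g * (asym o' * asym g) + asym o' * asym g * (asym o * asym g) =
      tau o g • (asym o' * asym g) + tau o' g • (asym o * asym g) -
        ((o 0 * o' 5 - o 1 * o' 4 + o 2 * o' 3 + (o' 0 * o 5 - o' 1 * o 4 + o' 2 * o 3)) * pf g) •
          (1 : Matrix (Fin 4) (Fin 4) F) := by
  ext i j
  fin_cases i <;> fin_cases j <;> simp [asym, tau, pf, Matrix.mul_apply, Fin.sum_univ_four] <;> ring

/-- A set of local operators: any two anticommute up to scalars and it is invariant under similitudes. -/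
structure Loc {k : ℕ} (G : Matrix (Fin k) (Fin k) F) (S : Set (Matrix (Fin k) (Fin k) F)) : Prop where
  anti : ∀ A ∈ S, ∀ B ∈ S, ∃ τ : F, A * B + B * A = τ • 1
  inv : ∀ (g h : Matrix (Fin k) (Fin k) F) (μ : F), μ ≠ 0 → g * h = 1 → h * g = 1 → gᵀ * G * g = μ • G →
    ∀ A ∈ S, g * A * h ∈ S

/-- Local operators in dimension two. -/
def S2 (F : Type*) [Field F] : Set (Matrix (Fin 2) (Fin 2) F) := {M | M.trace = 0}

theorem loc_two (G : Matrix (Fin 2) (Fin 2) F) : Loc G (S2 F) where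
  anti A hA B hB := by
    simp only [S2, Set.mem_ofPred_eq, Matrix.trace_fin_two] at hA hB
    refine ⟨2 * A 0 0 * B 0 0 + A 0 1 * B 1 0 + B 0 1 * A 1 0, ?_⟩
    have ha : A 1 1 = - A 0 0 := by linear_combination hA
    have hb : B 1 1 = - B 0 0 := by linear_combination hB
    ext i j
    fin_cases i <;> fin_cases j <;> simp [Matrix.mul_apply, ha, hb] <;> ring
  inv g h μ _ _ hhg _ A hA := by
    simp only [S2, Set.mem_ofPred_eq] at hA ⊢
    rw [Matrix.trace_mul_cycle, hhg, one_mul, hA]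

/-- Local operators in dimension four. -/
def S4 (G : Matrix (Fin 4) (Fin 4) F) : Set (Matrix (Fin 4) (Fin 4) F) :=
  {M | (∃ Ω, IsAlt Ω ∧ M = Ω * G) ∧ ∃ π : F, M * M = π • 1}

theorem loc_four (h2 : (2 : F) = 0) {G : Matrix (Fin 4) (Fin 4) F} (hG : IsAlt G) : Loc G (S4 G) where
  anti := by
    obtain ⟨g, rfl⟩ := exists_asym hG
    rintro _ ⟨⟨Ω, hΩ, rfl⟩, π, hπ⟩ _ ⟨⟨Ω', hΩ', rfl⟩, π', hπ'⟩
    obtain ⟨o, rfl⟩ := exists_asym hΩ
    obtain ⟨o', rfl⟩ := exists_asym hΩ'
    have key : ∀ (o : Fin 6 → F) (π : F), asym o * asym g * (asym o * asym g) = π • 1 → tau o g ≠ 0 →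
        ∃ c : F, asym o * asym g = c • 1 := by
      intro o π hπ h0
      refine ⟨(tau o g)⁻¹ * (π + pf o * pf g), ?_⟩
      have h1 := (asym_sq o g).symm.trans hπ
      rw [sub_eq_iff_eq_add] at h1
      rw [← smul_smul, add_smul, ← h1, inv_smul_smul₀ h0]
    have hsc : ∀ (c : F) (X : Matrix (Fin 4) (Fin 4) F), (c • 1) * X + X * (c • 1) = (0 : F) • 1 := by
      intro c X
      rw [Matrix.smul_mul, Matrix.mul_smul, one_mul, mul_one, ← two_smul F, h2, zero_smul, zero_smul]
    by_cases h : tau o g = 0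
    · by_cases h' : tau o' g = 0
      · exact ⟨_, by rw [asym_anti, h, h', zero_smul, zero_smul, add_zero, zero_sub, ← neg_smul]⟩
      · obtain ⟨c, hc⟩ := key o' π' hπ' h'
        exact ⟨0, by rw [hc, add_comm, hsc]⟩
    · obtain ⟨c, hc⟩ := key o π hπ h
      exact ⟨0, by rw [hc, hsc]⟩
  inv := by
    rintro g h μ hμ hgh hhg hs _ ⟨⟨Ω, hΩ, rfl⟩, π, hπ⟩
    refine ⟨⟨μ⁻¹ • (g * Ω * gᵀ), ⟨fun i => by simp [(alt_congr g hΩ).diag i],
      fun i j => by simp [(alt_congr g hΩ).skew i j]⟩, ?_⟩, π, ?_⟩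
    · have h1 : μ⁻¹ • (gᵀ * G) = G * h := by
        rw [show gᵀ * G = gᵀ * G * g * h by rw [mul_assoc (gᵀ * G), hgh, mul_one], hs, Matrix.smul_mul,
          inv_smul_smul₀ hμ]
      rw [Matrix.smul_mul, mul_assoc (g * Ω), ← Matrix.mul_smul, h1]
      simp only [mul_assoc]
    · calc g * (Ω * G) * h * (g * (Ω * G) * h) = g * (Ω * G * (Ω * G)) * h := by
            rw [show g * (Ω * G) * h * (g * (Ω * G) * h) = g * (Ω * G) * (h * g) * (Ω * G) * h by
              simp only [mul_assoc], hhg, mul_one]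
            simp only [mul_assoc]
        _ = _ := by rw [hπ, Matrix.mul_smul, mul_one, Matrix.smul_mul, hgh]

end Cfsg.Agent.Lib.SpinTensor
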