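import Cfsg.Agent.Lib.SpinTensor.Local
import Cfsg.Agent.Lib.SpinTensor.Car
import Cfsg.Agent.Lib.AschbacherSp.Wreath

/-!
The normaliser in Omega of the span of local operators strictly contains the tensor wreath subgroup and is
proper: symplectic tensor powers in characteristic two lie in a spin overgroup.
Owner: helper1.
-/

set_option autoImplicit false
set_option linter.style.haveILetI false
set_option linter.unusedSectionVars false

namespace Cfsg.Agent.Lib.SpinTensor

open Cfsg.Geo Cfsg.Agent.Lib.Aschbacher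
open Cfsg.Agent.Lib.AschbacherSp (pureVec tens_mulVec_pure injL_transpose tens_inv)
open scoped Matrix MatrixGroups commutatorElement

variable {F : Type*} [Field F] {k t : ℕ}

local notation "Idx" => (Fin t → Fin k)
local notation "Small" => Matrix (Fin k) (Fin k) F
local notation "Big" => Matrix (Fin t → Fin k) (Fin t → Fin k) F

/-- The span of the scalars and the local operators. -/
def W (t : ℕ) (S : Set Small) : Submodule F (Matrix (Fin t → Fin k) (Fin t → Fin k) F) :=
  Submodule.span F (insert 1 {M | ∃ (i : Fin t) (A : Small), A ∈ S ∧ M = injL i A})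

theorem injL_mem_W {S : Set Small} {i : Fin t} {A : Small} (hA : A ∈ S) : injL i A ∈ W t S :=
  Submodule.subset_span (Or.inr ⟨i, A, hA, rfl⟩)

theorem injL_commute {i l : Fin t} (h : i ≠ l) (A B : Small) : Commute (injL i A) (injL l B) := by
  rw [Commute, SemiconjBy, injL_apply, injL_apply, tens_mul, tens_mul]
  congr 1
  funext j
  rcases eq_or_ne j i with rfl | hj
  · simp [Function.update_of_ne h]
  · simp [Function.update_of_ne hj]

theorem add_self_eq_zero' (h2 : (2 : F) = 0) {κ : Type*} (M : Matrix κ κ F) : M + M = 0 := by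
  rw [← two_smul F, h2, zero_smul]

theorem W_anti (h2 : (2 : F) = 0) {G : Small} {S : Set Small} (hS : Loc G S) {D D' : Big}
    (hD : D ∈ W t S) (hD' : D' ∈ W t S) : ∃ τ : F, D * D' + D' * D = τ • 1 := by
  induction hD, hD' using Submodule.span_induction₂ with
  | mem_mem x y hx hy =>
    rcases hx with rfl | ⟨i, A, hA, rfl⟩
    · exact ⟨0, by rw [one_mul, mul_one, add_self_eq_zero' h2, zero_smul]⟩
    · rcases hy with rfl | ⟨l, B, hB, rfl⟩
      · exact ⟨0, by rw [one_mul, mul_one, add_self_eq_zero' h2, zero_smul]⟩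
      · by_cases h : i = l
        · subst h
          obtain ⟨τ, hτ⟩ := hS.anti A hA B hB
          exact ⟨τ, by rw [← injL_mul, ← injL_mul, ← map_add, hτ, map_smul, injL_one]⟩
        · exact ⟨0, by rw [(injL_commute h A B).eq, add_self_eq_zero' h2, zero_smul]⟩
  | zero_left y _ => exact ⟨0, by simp⟩
  | zero_right x _ => exact ⟨0, by simp⟩
  | add_left x y z _ _ _ h₁ h₂ =>
    obtain ⟨τ₁, h₁⟩ := h₁
    obtain ⟨τ₂, h₂⟩ := h₂
    exact ⟨τ₁ + τ₂, by rw [add_smul, ← h₁, ← h₂, add_mul, mul_add]; abel⟩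
  | add_right x y z _ _ _ h₁ h₂ =>
    obtain ⟨τ₁, h₁⟩ := h₁
    obtain ⟨τ₂, h₂⟩ := h₂
    exact ⟨τ₁ + τ₂, by rw [add_smul, ← h₁, ← h₂, add_mul, mul_add]; abel⟩
  | smul_left r x y _ _ h =>
    obtain ⟨τ, h⟩ := h
    exact ⟨r * τ, by rw [Matrix.smul_mul, Matrix.mul_smul, ← smul_add, h, smul_smul]⟩
  | smul_right r x y _ _ h =>
    obtain ⟨τ, h⟩ := h
    exact ⟨r * τ, by rw [Matrix.smul_mul, Matrix.mul_smul, ← smul_add, h, smul_smul]⟩

/-- Conjugation, as a linear map. -/
noncomputable def conjL (g : GL Idx F) : Big →ₗ[F] Big :=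
  (LinearMap.mulLeft F (g : Big)).comp (LinearMap.mulRight F ((g⁻¹ : GL Idx F) : Big))

theorem conjL_apply (g : GL Idx F) (M : Big) : conjL g M = (g : Big) * M * ((g⁻¹ : GL Idx F) : Big) := by
  simp [conjL, mul_assoc]

theorem conjL_mul (g h : GL Idx F) (M : Big) : conjL (g * h) M = conjL g (conjL h M) := by
  simp [conjL_apply, mul_assoc]

/-- The stabiliser of W under conjugation. -/
noncomputable def stabW (t : ℕ) (S : Set Small) : Subgroup (GL (Fin t → Fin k) F) where
  carrier := {g | ∀ M, M ∈ W t S ↔ conjL g M ∈ W t S}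
  one_mem' M := by simp [conjL_apply]
  mul_mem' {g h} hg hh M := by rw [conjL_mul]; exact (hh M).trans (hg _)
  inv_mem' {g} hg M := by
    rw [hg (conjL g⁻¹ M), ← conjL_mul, mul_inv_cancel]
    simp [conjL_apply]

theorem mem_stabW {S : Set Small} {g : GL Idx F}
    (h : ∀ (i : Fin t) (A : Small), A ∈ S → conjL g (injL i A) ∈ W t S)
    (h' : ∀ (i : Fin t) (A : Small), A ∈ S → conjL g⁻¹ (injL i A) ∈ W t S) : g ∈ stabW t S := by
  have aux : ∀ g : GL Idx F, (∀ (i : Fin t) (A : Small), A ∈ S → conjL g (injL i A) ∈ W t S) →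
      ∀ M ∈ W t S, conjL g M ∈ W t S := by
    intro g hg
    suffices W t S ≤ (W t S).comap (conjL g) from this
    refine Submodule.span_le.2 ?_
    rintro _ (rfl | ⟨i, A, hA, rfl⟩)
    · simp only [SetLike.mem_coe, Submodule.mem_comap, conjL_apply, mul_one, Units.mul_inv]
      exact Submodule.subset_span (Or.inl rfl)
    · exact hg i A hA
  intro M
  refine ⟨aux g h M, fun hM => ?_⟩
  have := aux g⁻¹ h' _ hM
  rwa [← conjL_mul, inv_mul_cancel, conjL_apply, Units.val_one, one_mul, inv_one, Units.val_one, mul_one] at this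

/-- The standard tensor wreath group consists of a pure tensor times a factor permutation. -/
theorem standard_form [Finite F] {g : GL Idx F} (hg : g ∈ tensorWreathStandard k t F) :
    ∃ (σ : Equiv.Perm (Fin t)) (A : Fin t → GL (Fin k) F),
      (g : Big) = tens (fun i => (A i : Small)) * pm σ := by
  rw [tensorWreathStandard, ← Subgroup.mem_toSubmonoid, Subgroup.closure_toSubmonoid_of_finite] at hg
  induction hg using Submonoid.closure_induction with
  | mem g hg =>
    rcases hg with ⟨gs, hgs⟩ | ⟨σ, hσ⟩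
    · refine ⟨1, gs, ?_⟩
      ext x y
      rw [mul_pm, tens_apply, hgs]
      rfl
    · refine ⟨σ, fun _ => 1, ?_⟩
      ext x y
      simp only [Units.val_one, tens_one, one_mul]
      rw [hσ]
      rfl
  | one =>
    refine ⟨1, fun _ => 1, ?_⟩
    ext x y
    simp only [Units.val_one, tens_one, one_mul]
    simp [pm, Matrix.one_apply, eq_comm]
  | mul a b _ _ ha hb =>
    obtain ⟨σ, A, ha⟩ := ha
    obtain ⟨π, B, hb⟩ := hb
    refine ⟨σ * π, fun i => A i * B (σ.symm i), ?_⟩
    rw [Units.val_mul, ha, hb, mul_assoc (tens _), ← mul_assoc (pm σ), pm_tens, mul_assoc (tens _) (pm σ),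
      ← mul_assoc, tens_mul]
    congr 1
    ext x y
    rw [pm_mul]
    simp only [pm, Matrix.of_apply, Function.comp_assoc, Equiv.Perm.coe_mul]
    congr

theorem standard_conj_injL {g : GL Idx F} {σ : Equiv.Perm (Fin t)} {A : Fin t → GL (Fin k) F}
    (hg : (g : Big) = tens (fun i => (A i : Small)) * pm σ) (i : Fin t) (M : Small) :
    conjL g (injL i M) = injL (σ i) ((A (σ i) : Small) * M * (((A (σ i))⁻¹ : GL (Fin k) F) : Small)) := by
  have h1 : ∀ X : Small, tens (fun j => (A j : Small)) * injL (σ i) X =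
      injL (σ i) ((A (σ i) : Small) * X * (((A (σ i))⁻¹ : GL (Fin k) F) : Small)) *
        tens (fun j => (A j : Small)) := by
    intro X
    rw [injL_apply, injL_apply, tens_mul, tens_mul]
    congr 1
    funext j
    rcases eq_or_ne j (σ i) with rfl | hj
    · simp [mul_assoc]
    · simp [Function.update_of_ne hj]
  rw [conjL_apply, ← Units.eq_mul_inv_iff_mul_eq, inv_inv, hg, mul_assoc, pm_injL, ← mul_assoc, h1, mul_assoc]

theorem pm_conj_const (σ : Equiv.Perm (Fin t)) (G : Small) :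
    (pm σ : Big)ᵀ * tens (fun _ : Fin t => G) * pm σ = tens (fun _ : Fin t => G) := by
  rw [mul_assoc, ← pm_tens σ (fun _ : Fin t => G), pm_transpose, ← mul_assoc]
  have h := pm_mul_pm_symm (F := F) (m := k) σ.symm
  rw [Equiv.symm_symm] at h
  rw [h, one_mul]

/-- Proportional factors of equal tensors. -/
theorem tens_factor {A B : Fin t → Small} (h : tens A = tens B) (hB : ∀ i, B i ≠ 0) (i : Fin t) :
    ∃ μ : F, μ ≠ 0 ∧ A i = μ • B i := by
  have hex : ∀ l, ∃ a b, B l a b ≠ 0 := fun l => by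
    by_contra! hc
    exact hB l (Matrix.ext hc)
  choose xa xb hx using hex
  have hA : ∀ l, A l (xa l) (xb l) ≠ 0 := by
    intro l
    have h1 : ∏ m, A m (xa m) (xb m) = ∏ m, B m (xa m) (xb m) := congrFun (congrFun h xa) xb
    have h2 : ∏ m, B m (xa m) (xb m) ≠ 0 := Finset.prod_ne_zero_iff.2 fun m _ => hx m
    rw [← h1, Finset.prod_ne_zero_iff] at h2
    exact h2 l (Finset.mem_univ l)
  set pA := ∏ l ∈ Finset.univ.erase i, A l (xa l) (xb l) with hpA
  set pB := ∏ l ∈ Finset.univ.erase i, B l (xa l) (xb l) with hpB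
  have hA0 : pA ≠ 0 := Finset.prod_ne_zero_iff.2 fun l _ => hA l
  have hB0 : pB ≠ 0 := Finset.prod_ne_zero_iff.2 fun l _ => hx l
  refine ⟨pB * pA⁻¹, mul_ne_zero hB0 (inv_ne_zero hA0), ?_⟩
  ext a b
  have h1 : ∏ m, A m (Function.update xa i a m) (Function.update xb i b m) =
      ∏ m, B m (Function.update xa i a m) (Function.update xb i b m) :=
    congrFun (congrFun h (Function.update xa i a)) (Function.update xb i b)
  rw [← Finset.mul_prod_erase _ _ (Finset.mem_univ i), ← Finset.mul_prod_erase _ _ (Finset.mem_univ i),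
    Function.update_self, Function.update_self] at h1
  rw [Finset.prod_congr rfl (fun l hl => by
      rw [Function.update_of_ne (Finset.ne_of_mem_erase hl), Function.update_of_ne (Finset.ne_of_mem_erase hl)]),
    ← hpA, Finset.prod_congr rfl (fun l hl => by
      rw [Function.update_of_ne (Finset.ne_of_mem_erase hl), Function.update_of_ne (Finset.ne_of_mem_erase hl)]),
    ← hpB] at h1
  rw [Matrix.smul_apply, smul_eq_mul]
  field_simp
  linear_combination h1

/-- The element 1 + R, an involution when R has square zero. -/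
def invUnit (h2 : (2 : F) = 0) (R : Big) (hR : R * R = 0) : GL Idx F :=
  ⟨1 + R, 1 + R, invol (add_self_eq_zero' h2) hR, invol (add_self_eq_zero' h2) hR⟩

/-- Operators self-adjoint for G. -/
def SelfAdj {κ : Type*} [Fintype κ] (G M : Matrix κ κ F) : Prop := Mᵀ * G = G * M

theorem SelfAdj.mul {κ : Type*} [Fintype κ] {G M N : Matrix κ κ F} (hM : SelfAdj G M) (hN : SelfAdj G N)
    (hc : Commute M N) : SelfAdj G (M * N) := by
  have hM' : Mᵀ * G = G * M := hM
  have hN' : Nᵀ * G = G * N := hN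
  unfold SelfAdj
  rw [Matrix.transpose_mul, mul_assoc, hM', ← mul_assoc, hN', mul_assoc, hc.eq]

/-- The Clifford data attached to tensor slots. -/
structure Slots (G : Small) (S : Set Small) (s : Fin 4 → Fin t) (la lb : Fin 4 → Small) : Prop where
  loc : Loc G S
  mema : ∀ j, la j ∈ S
  memb : ∀ j, lb j ∈ S
  sqa : ∀ j, la j * la j = 0
  sqb : ∀ j, lb j * lb j = 0
  anti : ∀ j, la j * lb j + lb j * la j = 1
  aa : ∀ j l, s j = s l → Commute (la j) (la l)
  bb : ∀ j l, s j = s l → Commute (lb j) (lb l)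
  ab : ∀ j l, j ≠ l → s j = s l → Commute (la j) (lb l)
  adja : ∀ j, SelfAdj G (la j)
  adjb : ∀ j, SelfAdj G (lb j)
  ne : s 0 ≠ s 1

theorem Slots.car {G : Small} {S : Set Small} {s : Fin 4 → Fin t} {la lb : Fin 4 → Small}
    (h : Slots G S s la lb) (h2 : (2 : F) = 0) :
    Car (fun j => injL (s j) (la j)) (fun j => injL (s j) (lb j)) := by
  have hcomm : ∀ i l (A B : Small), (i = l → Commute A B) → Commute (injL (k := t) i A) (injL l B) := by
    intro i l A B hAB
    by_cases hil : i = l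
    · subst hil
      rw [Commute, SemiconjBy, ← injL_mul, ← injL_mul, (hAB rfl).eq]
    · exact injL_commute hil A B
  exact ⟨add_self_eq_zero' h2, fun j => by rw [← injL_mul, h.sqa, map_zero],
    fun j => by rw [← injL_mul, h.sqb, map_zero], fun j => by rw [← injL_mul, ← injL_mul, ← map_add, h.anti, injL_one],
    fun j l => hcomm _ _ _ _ (h.aa j l), fun j l => hcomm _ _ _ _ (h.bb j l),
    fun j l hne => hcomm _ _ _ _ (h.ab j l hne)⟩

theorem selfAdj_injL {G A : Small} (h : SelfAdj G A) (i : Fin t) :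
    SelfAdj (tens fun _ : Fin t => G) (injL i A) := by
  have h' : Aᵀ * G = G * A := h
  unfold SelfAdj
  rw [injL_transpose, injL_apply, injL_apply, tens_mul, tens_mul]
  congr 1
  funext j
  rcases eq_or_ne j i with rfl | hj
  · simp [h']
  · simp [Function.update_of_ne hj]

theorem tens_diag {G : Small} {A : Fin t → Small} {i : Fin t} (h : ∀ x, (G * A i) x x = 0) (a : Idx) :
    (tens (fun _ : Fin t => G) * tens A) a a = 0 := by
  rw [tens_mul, tens_apply]
  exact Finset.prod_eq_zero (Finset.mem_univ i) (h _)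

/-- A pure operator with a slot of zero diagonal. -/
def IsNull (G : Small) (R : Big) : Prop :=
  ∃ (A : Fin t → Small) (i : Fin t), R = tens A ∧ ∀ x, (G * A i) x x = 0

theorem isNull_two {G : Small} {A B : Small} {i j l : Fin t}
    (h : ∀ x, (G * (Function.update (fun _ => (1 : Small)) i A l *
      Function.update (fun _ => (1 : Small)) j B l)) x x = 0) :
    IsNull G (injL i A * injL j B) :=
  ⟨_, l, by rw [injL_apply, injL_apply, tens_mul], h⟩

theorem isNull_three {G : Small} {A B C : Small} {i j j' l : Fin t}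
    (h : ∀ x, (G * (Function.update (fun _ => (1 : Small)) i A l *
      (Function.update (fun _ => (1 : Small)) j B l * Function.update (fun _ => (1 : Small)) j' C l))) x x = 0) :
    IsNull G (injL i A * (injL j B * injL j' C)) :=
  ⟨_, l, by rw [injL_apply, injL_apply, injL_apply, tens_mul, tens_mul], h⟩

variable {ι : Type} [Fintype ι] [DecidableEq ι]

theorem coordGL_mulVec (e : ι ≃ Idx) (P : GL ι F) (g : GL Idx F) (x : Idx → F) :
    ((coordGL e P g : GL ι F) : Matrix ι ι F) *ᵥ ((P : Matrix ι ι F) *ᵥ (x ∘ e)) =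
      (P : Matrix ι ι F) *ᵥ (((g : Big) *ᵥ x) ∘ e) := by
  rw [coordGL_val, coordAlg_apply, Matrix.mulVec_mulVec, mul_assoc, Units.inv_mul, mul_one,
    ← Matrix.mulVec_mulVec]
  congr 1
  funext a
  simp only [Matrix.mulVec, dotProduct, Matrix.reindexAlgEquiv_apply, Matrix.reindex_apply, Matrix.submatrix_apply,
    Equiv.symm_symm, Function.comp_apply]
  exact Equiv.sum_comp e fun b => (g : Big) (e a) b * x b

theorem coord_surj (e : ι ≃ Idx) (P : GL ι F) (v : ι → F) :
    ∃ x : Idx → F, (P : Matrix ι ι F) *ᵥ (x ∘ e) = v :=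
  ⟨(((P⁻¹ : GL ι F) : Matrix ι ι F) *ᵥ v) ∘ e.symm, by
    rw [Function.comp_assoc, Equiv.symm_comp_self, Function.comp_id, Matrix.mulVec_mulVec, Units.mul_inv,
      Matrix.one_mulVec]⟩

/-- The quadratic form in tensor coordinates. -/
structure FormData (e : ι ≃ Idx) (P : GL ι F) (Q : (ι → F) → F) (G : Small) (c : F) : Prop where
  two : (2 : F) = 0
  ne : c ≠ 0
  smul : ∀ (a : F) (v : ι → F), Q (a • v) = a ^ 2 * Q v
  polar : ∀ x y : Idx → F, QuadraticMap.polar Q ((P : Matrix ι ι F) *ᵥ (x ∘ e)) ((P : Matrix ι ι F) *ᵥ (y ∘ e)) =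
    c * (x ⬝ᵥ tens (fun _ : Fin t => G) *ᵥ y)
  pure : ∀ xs : Fin t → Fin k → F, Q ((P : Matrix ι ι F) *ᵥ (pureVec xs ∘ e)) = 0

variable {e : ι ≃ (Fin t → Fin k)} {P : GL ι F} {Q : (ι → F) → F} {G : Matrix (Fin k) (Fin k) F} {c : F}

theorem isometry_iff {g : GL ι F} : g ∈ isometryGroup F Q ↔ ∀ v, Q ((g : Matrix ι ι F) *ᵥ v) = Q v := by
  constructor
  · exact fun h v => h v v
  · exact fun h v _ => h v

theorem FormData.gram_of_isometry (hf : FormData e P Q G c) {g : GL Idx F}
    (hg : coordGL e P g ∈ isometryGroup F Q) :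
    (g : Big)ᵀ * tens (fun _ : Fin t => G) * (g : Big) = tens (fun _ : Fin t => G) := by
  rw [isometry_iff] at hg
  have hp : ∀ x y, ((g : Big) *ᵥ x) ⬝ᵥ tens (fun _ : Fin t => G) *ᵥ ((g : Big) *ᵥ y) = x ⬝ᵥ tens (fun _ : Fin t => G) *ᵥ y := by
    intro x y
    refine mul_left_cancel₀ hf.ne ?_
    rw [← hf.polar, ← hf.polar, ← coordGL_mulVec, ← coordGL_mulVec, QuadraticMap.polar, QuadraticMap.polar,
      ← Matrix.mulVec_add, hg, hg, hg]
  have hs : ∀ (M : Big) (a b : Idx), M a b = Pi.single a 1 ⬝ᵥ M *ᵥ Pi.single b 1 := fun M a b => by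
    simp [single_dotProduct, Matrix.mulVec_single_one]
  refine Matrix.ext fun a b => ?_
  rw [hs ((g : Big)ᵀ * tens (fun _ : Fin t => G) * (g : Big)) a b, hs (tens fun _ : Fin t => G) a b, ← hp (Pi.single a 1) (Pi.single b 1), ← Matrix.mulVec_mulVec,
    ← Matrix.mulVec_mulVec, Matrix.dotProduct_mulVec _ (g : Big)ᵀ, Matrix.vecMul_transpose]

theorem FormData.mem_isometry (hf : FormData e P Q G c) {R : Big} (hR : R * R = 0)
    (hadj : SelfAdj (tens fun _ : Fin t => G) R) (hnull : IsNull G R) :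
    coordGL e P (invUnit hf.two R hR) ∈ isometryGroup F Q := by
  set q : (Idx → F) → F := fun x => Q ((P : Matrix ι ι F) *ᵥ (x ∘ e)) with hq
  set T : Big := 1 + R with hT
  have hpol : ∀ x y, q (x + y) = q x + q y + c * (x ⬝ᵥ tens (fun _ : Fin t => G) *ᵥ y) := by
    intro x y
    rw [← hf.polar, QuadraticMap.polar, hq]
    simp only
    rw [← Matrix.mulVec_add, show (x + y) ∘ e = x ∘ e + y ∘ e from rfl]
    abel
  have hG : Tᵀ * tens (fun _ : Fin t => G) * T = tens (fun _ : Fin t => G) := by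
    rw [hT, Matrix.transpose_add, Matrix.transpose_one, add_mul, one_mul, show Rᵀ * tens (fun _ : Fin t => G) =
      tens (fun _ : Fin t => G) * R from hadj, ← mul_one_add, mul_assoc, invol (add_self_eq_zero' hf.two) hR, mul_one]
  have hsm : ∀ (a : F) x, q (a • x) = a ^ 2 * q x := by
    intro a x
    rw [hq]
    simp only
    rw [show (a • x) ∘ e = a • (x ∘ e) from rfl, Matrix.mulVec_smul, hf.smul]
  have hadd : ∀ x y, q (T *ᵥ x) = q x → q (T *ᵥ y) = q y → q (T *ᵥ (x + y)) = q (x + y) := by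
    intro x y hx hy
    have h1 : (T *ᵥ x) ⬝ᵥ tens (fun _ : Fin t => G) *ᵥ (T *ᵥ y) = x ⬝ᵥ tens (fun _ : Fin t => G) *ᵥ y := by
      conv_rhs => rw [← hG]
      rw [← Matrix.mulVec_mulVec, ← Matrix.mulVec_mulVec, Matrix.dotProduct_mulVec x Tᵀ, Matrix.vecMul_transpose]
    rw [Matrix.mulVec_add, hpol, hpol, hx, hy, h1]
  have hbase : ∀ a : Idx, q (T *ᵥ Pi.single a 1) = q (Pi.single a 1) := by
    intro a
    obtain ⟨A, i, hA, hdiag⟩ := hnull
    have hsp : (Pi.single a 1 : Idx → F) = pureVec fun l => Pi.single (a l) 1 := by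
      funext z
      rw [pureVec]
      rcases eq_or_ne z a with rfl | h
      · simp
      · obtain ⟨l, hl⟩ := Function.ne_iff.mp h
        rw [Pi.single_eq_of_ne h, Finset.prod_eq_zero (Finset.mem_univ l)]
        simp [hl]
    have hw : q (R *ᵥ Pi.single a 1) = 0 := by
      rw [hA, hsp, tens_mulVec_pure]
      exact hf.pure _
    have hcr : (Pi.single a 1 : Idx → F) ⬝ᵥ tens (fun _ : Fin t => G) *ᵥ (R *ᵥ Pi.single a 1) = 0 := by
      rw [Matrix.mulVec_mulVec, single_dotProduct, Matrix.mulVec_single_one, one_mul, hA]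
      exact tens_diag hdiag a
    rw [hT, Matrix.add_mulVec, Matrix.one_mulVec, hpol, hw, hcr, mul_zero, add_zero, add_zero]
  have hall : ∀ x, q (T *ᵥ x) = q x := by
    intro x
    rw [pi_eq_sum_univ' x]
    refine Finset.sum_induction _ (fun v => q (T *ᵥ v) = q v) hadd ?_ fun a _ => ?_
    · simp
    · rw [Matrix.mulVec_smul, hsm, hsm, hbase]
  rw [isometry_iff]
  intro v
  obtain ⟨x, rfl⟩ := coord_surj e P v
  rw [coordGL_mulVec]
  exact hall x

theorem commutator_mem_omega {x y : GL ι F} (hx : x ∈ isometryGroup F Q) (hy : y ∈ isometryGroup F Q) :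
    ⁅x, y⁆ ∈ omegaGL Q := by
  refine ⟨⁅(⟨x, hx⟩ : isometryGroup F Q), ⟨y, hy⟩⁆, ?_, ?_⟩
  · exact Subgroup.commutator_mem_commutator trivial trivial
  · simp [map_commutatorElement]

theorem FormData.commutator_unit (hf : FormData e P Q G c) {a b C D : Big}
    (ha : a * a = 0) (hb : b * b = 0) (hab : a * b + b * a = 1) (haC : Commute a C) (haD : Commute a D)
    (hbC : Commute b C) (hbD : Commute b D) (hCD : Commute C D) (hC : C * C = 0) (hD : D * D = 0)
    (sa : SelfAdj (tens fun _ : Fin t => G) a) (sb : SelfAdj (tens fun _ : Fin t => G) b)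
    (sC : SelfAdj (tens fun _ : Fin t => G) C) (sD : SelfAdj (tens fun _ : Fin t => G) D)
    (nX : IsNull G (a * C)) (nY : IsNull G (b * D)) :
    coordGL e P (invUnit hf.two (C * D) (sq_mul_zero hCD hC)) ∈ omegaGL Q := by
  have h := commutator_mem_omega
    (hf.mem_isometry (sq_mul_zero haC ha) (sa.mul sC haC) nX)
    (hf.mem_isometry (sq_mul_zero hbD hb) (sb.mul sD hbD) nY)
  rw [← map_commutatorElement] at h
  convert h using 2
  refine Units.ext ?_
  show 1 + C * D = (1 + a * C) * (1 + b * D) * (1 + a * C) * (1 + b * D)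
  rw [comm_invol (add_self_eq_zero' hf.two) ha hb hab haC haD hbC hbD hCD hC hD]

/-- The main overgroup statement. -/
theorem exists_between [Fintype F] [Nonempty Idx] (hf : FormData e P Q G c) (hG0 : G ≠ 0)
    {S : Set Small} {s : Fin 4 → Fin t} {la lb : Fin 4 → Small} (hs : Slots G S s la lb)
    (n1 : IsNull G (injL (s 2) (la 2) * injL (s 0) (la 0)))
    (n2 : IsNull G (injL (s 2) (lb 2) * injL (s 1) (la 1)))
    (n3 : IsNull G (injL (s 3) (la 3) * injL (s 0) (la 0)))
    (n4 : IsNull G (injL (s 3) (lb 3) * (injL (s 1) (la 1) * injL (s 2) (la 2)))) :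
    ∃ K : Subgroup (GL ι F), tensorWreathSubgroup k t e P ⊓ omegaGL Q < K ∧ K < omegaGL Q := by
  classical
  have h2 := hf.two
  set a : Fin 4 → Big := fun j => injL (s j) (la j) with ha
  set b : Fin 4 → Big := fun j => injL (s j) (lb j) with hb
  have hc : Car a b := hs.car h2
  have sa : ∀ j, SelfAdj (tens fun _ : Fin t => G) (a j) := fun j => selfAdj_injL (hs.adja j) _
  have sb : ∀ j, SelfAdj (tens fun _ : Fin t => G) (b j) := fun j => selfAdj_injL (hs.adjb j) _
  have h12 : a 1 * a 2 * (a 1 * a 2) = 0 := sq_mul_zero (hc.aa 1 2) (hc.sqa 1)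
  let T : GL Idx F := invUnit h2 (a 0 * a 1) (sq_mul_zero (hc.aa 0 1) (hc.sqa 0))
  let U : GL Idx F := invUnit h2 (a 0 * (a 1 * a 2))
    (sq_mul_zero ((hc.aa 0 1).mul_right (hc.aa 0 2)) (hc.sqa 0))
  have hT : coordGL e P T ∈ omegaGL Q :=
    hf.commutator_unit (hc.sqa 2) (hc.sqb 2) (hc.anti 2) (hc.aa 2 0) (hc.aa 2 1)
      (hc.ab 0 2 (by decide)).symm (hc.ab 1 2 (by decide)).symm (hc.aa 0 1) (hc.sqa 0) (hc.sqa 1)
      (sa 2) (sb 2) (sa 0) (sa 1) n1 n2
  have hU : coordGL e P U ∈ omegaGL Q :=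
    hf.commutator_unit (hc.sqa 3) (hc.sqb 3) (hc.anti 3) (hc.aa 3 0) ((hc.aa 3 1).mul_right (hc.aa 3 2))
      (hc.ab 0 3 (by decide)).symm ((hc.ab 1 3 (by decide)).symm.mul_right (hc.ab 2 3 (by decide)).symm)
      ((hc.aa 0 1).mul_right (hc.aa 0 2)) (hc.sqa 0) h12 (sa 3) (sb 3) (sa 0) ((sa 1).mul (sa 2) (hc.aa 1 2))
      n3 n4
  have hTinv : T⁻¹ = T := rfl
  have hUinv : U⁻¹ = U := rfl
  have hTb : conjL T (b 0) = b 0 + a 1 := by
    rw [conjL_apply, hTinv]
    exact conj_invol hc.two (hc.sqa 0) (hc.anti 0) (hc.aa 0 1) (hc.ab 1 0 (by decide)).symm (hc.sqa 1)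
  have hUb : conjL U (b 0) = b 0 + a 1 * a 2 := by
    rw [conjL_apply, hUinv]
    exact conj_invol hc.two (hc.sqa 0) (hc.anti 0) ((hc.aa 0 1).mul_right (hc.aa 0 2))
      ((hc.ab 1 0 (by decide)).symm.mul_right (hc.ab 2 0 (by decide)).symm) h12
  have hne1 : (1 : Big) ≠ 0 := one_ne_zero
  have hWT : T ∈ stabW t S := by
    have hcase : ∀ (i : Fin t) (A : Small), A ∈ S → conjL T (injL i A) ∈ W t S := by
      intro i A hA
      obtain ⟨τ₀, h₀⟩ := W_anti h2 hs.loc (injL_mem_W (i := s 0) (hs.mema 0)) (injL_mem_W (i := i) hA)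
      obtain ⟨τ₁, h₁⟩ := W_anti h2 hs.loc (injL_mem_W (i := s 1) (hs.mema 1)) (injL_mem_W (i := i) hA)
      change a 0 * _ + _ * a 0 = _ at h₀
      change a 1 * _ + _ * a 1 = _ at h₁
      rw [conjL_apply, hTinv]
      change (1 + a 0 * a 1) * injL i A * (1 + a 0 * a 1) ∈ W t S
      set D := injL i A with hD
      have e0 : D * a 0 = τ₀ • 1 + a 0 * D := by
        rw [← h₀, add_comm (a 0 * D), add_assoc, hc.two, add_zero]
      have e1 : D * a 1 = τ₁ • 1 + a 1 * D := by
        rw [← h₁, add_comm (a 1 * D), add_assoc, hc.two, add_zero]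
      have e01 : D * (a 0 * a 1) = τ₀ • a 1 + τ₁ • a 0 + a 0 * a 1 * D := by
        rw [← mul_assoc, e0, add_mul, Matrix.smul_mul, one_mul, mul_assoc, e1, mul_add, Matrix.mul_smul, mul_one,
          ← mul_assoc, ← add_assoc]
      have hz0 : a 0 * a 1 * a 1 = 0 := by rw [mul_assoc, hc.sqa, mul_zero]
      have hz1 : a 0 * a 1 * a 0 = 0 := by
        rw [(hc.aa 0 1).eq, mul_assoc, hc.sqa, mul_zero]
      have hz2 : a 0 * a 1 * (a 0 * a 1 * D) = 0 := by
        rw [← mul_assoc, sq_mul_zero (hc.aa 0 1) (hc.sqa 0), zero_mul]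
      have : (1 + a 0 * a 1) * D * (1 + a 0 * a 1) = D + (τ₀ • a 1 + τ₁ • a 0) := by
        calc (1 + a 0 * a 1) * D * (1 + a 0 * a 1)
            = D + D * (a 0 * a 1) + a 0 * a 1 * D + a 0 * a 1 * (D * (a 0 * a 1)) := by noncomm_ring
          _ = _ := by
            rw [e01, mul_add, mul_add, Matrix.mul_smul, Matrix.mul_smul, hz0, hz1, hz2, smul_zero, smul_zero,
              add_zero, add_zero, add_zero, add_assoc D, add_assoc (τ₀ • a 1 + τ₁ • a 0), hc.two, add_zero]
      rw [this]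
      exact Submodule.add_mem _ (injL_mem_W hA) (Submodule.add_mem _ (Submodule.smul_mem _ _ (injL_mem_W (hs.mema 1)))
        (Submodule.smul_mem _ _ (injL_mem_W (hs.mema 0))))
    exact mem_stabW hcase (by rw [hTinv]; exact hcase)
  refine ⟨(stabW t S).map (coordGL e P).toMonoidHom ⊓ omegaGL Q, lt_of_le_not_ge ?_ ?_,
    lt_of_le_not_ge inf_le_right ?_⟩
  · rintro g ⟨hgW, hgQ⟩
    refine ⟨?_, hgQ⟩
    have hW : g ∈ tensorWreathSubgroup k t e P := hgW
    obtain ⟨g₁, ⟨g₀, hg₀, rfl⟩, rfl⟩ := hgW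
    have key : ∀ h : GL Idx F, h ∈ tensorWreathStandard k t F → coordGL e P h ∈ isometryGroup F Q →
        ∀ (i : Fin t) (A : Small), A ∈ S → conjL h (injL i A) ∈ W t S := by
      intro h hh hiso i A hA
      obtain ⟨σ, gs, hform⟩ := standard_form hh
      have hg : tens (fun l => ((gs l : Small))ᵀ * G * (gs l : Small)) = tens (fun _ : Fin t => G) := by
        have h3 := hf.gram_of_isometry hiso
        rw [hform, Matrix.transpose_mul] at h3
        have h4 := congrArg (fun M => (pm σ : Big) * M * (pm σ : Big)ᵀ) h3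
        simp only [pm_transpose] at h4
        have hl := pm_mul_pm_symm (F := F) (m := k) σ
        have h5 := pm_conj_const σ.symm G
        rw [pm_transpose, Equiv.symm_symm] at h5
        rw [h5] at h4
        rw [← tens_mul, ← tens_mul, ← tens_transpose]
        refine Eq.trans ?_ h4
        simp only [← mul_assoc, hl, one_mul]
        simp only [mul_assoc, hl, mul_one]
      obtain ⟨μ, hμ, hμeq⟩ := tens_factor hg (fun _ => hG0) (σ i)
      rw [standard_conj_injL hform]
      exact injL_mem_W (hs.loc.inv _ _ μ hμ (Units.mul_inv _) (Units.inv_mul _) hμeq A hA)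
    have hiso : coordGL e P g₀ ∈ isometryGroup F Q := by
      obtain ⟨x, -, hx⟩ := hgQ
      rw [show coordGL e P g₀ = (x : GL ι F) from hx.symm]
      exact x.2
    refine ⟨g₀, mem_stabW (key g₀ hg₀ hiso) (key g₀⁻¹ (inv_mem hg₀) ?_), rfl⟩
    rw [map_inv]
    exact inv_mem hiso
  · intro hle
    obtain ⟨⟨g₁, ⟨g₀, hg₀, rfl⟩, he⟩, -⟩ := hle ⟨⟨T, hWT, rfl⟩, hT⟩
    have hg : g₀ = T := (coordGL e P).injective he
    subst hg
    obtain ⟨σ, gs, hform⟩ := standard_form hg₀
    have h1 := standard_conj_injL hform (s 0) (lb 0)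
    rw [show injL (s 0) (lb 0) = b 0 from rfl, hTb] at h1
    set X := (gs (σ (s 0)) : Small) * lb 0 * (((gs (σ (s 0)))⁻¹ : GL (Fin k) F) : Small)
    have hpick : ∀ (j : Fin 4) (d : Big) (A : Small), d = injL (s j) A →
        (b 0 + a 1) * d + d * (b 0 + a 1) = 1 → σ (s 0) = s j := by
      intro j d A hd h3
      by_contra hne
      rw [h1, hd, (injL_commute hne X A).eq, hc.two] at h3
      exact hne1 h3.symm
    have p0 : σ (s 0) = s 0 := hpick 0 (a 0) (la 0) rfl (by
      rw [add_mul, mul_add, add_add_add_comm, add_comm (b 0 * a 0), hc.anti, (hc.aa 1 0).eq, hc.two, add_zero])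
    have p1 : σ (s 0) = s 1 := hpick 1 (b 1) (lb 1) rfl (by
      rw [add_mul, mul_add, add_add_add_comm, hc.anti, (hc.bb 0 1).eq, hc.two, zero_add])
    exact hs.ne (p0.symm.trans p1)
  · intro hle
    obtain ⟨⟨g₀, hg₀, he⟩, -⟩ := hle hU
    have hg : g₀ = U := (coordGL e P).injective he
    subst hg
    have h1 : conjL U (b 0) ∈ W t S := (hg₀ _).1 (injL_mem_W (hs.memb 0))
    rw [hUb] at h1
    obtain ⟨τ, hτ⟩ := W_anti h2 hs.loc h1 (injL_mem_W (i := s 1) (hs.memb 1))
    change (b 0 + a 1 * a 2) * b 1 + b 1 * (b 0 + a 1 * a 2) = _ at hτ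
    have h3 : a 2 = τ • 1 := by
      rw [← hτ, add_mul, mul_add, add_add_add_comm, (hc.bb 0 1).eq, hc.two, zero_add, mul_assoc,
        (hc.ab 2 1 (by decide)).eq, ← mul_assoc, ← mul_assoc, ← add_mul, hc.anti, one_mul]
    have h4 := hc.sqa 2
    rw [h3, Matrix.smul_mul, one_mul, smul_smul, smul_eq_zero] at h4
    have hτ0 : τ = 0 := by simpa using h4.resolve_right hne1
    rw [hτ0, zero_smul] at h3
    have h5 := hc.anti 2
    rw [h3, zero_mul, mul_zero, add_zero] at h5
    exact hne1 h5.symm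

end Cfsg.Agent.Lib.SpinTensor
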